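import Cfsg.Agent.XP.D0
import Cfsg.Agent.XP.Cls
import Cfsg.Agent.XP.OC

set_option autoImplicit false
set_option linter.unusedSectionVars false

namespace Cfsg.Agent.XP

open Cfsg Cfsg.Geo Cfsg.Agent.H98 Cfsg.Agent.H99 Matrix
open Cfsg.Agent.N9 (pm dg On pm_apply dg_apply coe_dg pm_dg conj_pm mul_pm_apply pm_mul_apply dg_const)

variable {F : Type*} [Field F] [Fintype F] {ι : Type} [Fintype ι] [DecidableEq ι] {p : ℕ} {ζ : Fˣ}
  {w g : GL I F} {G : Subgroup (GL I F)} {e : ι → I} {v : GL ι F} {Γ K Q P : Subgroup (GL ι F)}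

theorem Iso_trace : (jj F : Matrix I I F).trace = 1 := by
  have k : ∀ i : I, i = -i ↔ i = 0 := by decide
  simp only [trace, diag_apply, jj_apply, k, Finset.sum_ite_eq', Finset.mem_univ, if_true]

theorem comm_j (c : g * jj F * g⁻¹ * (jj F)⁻¹ ∈ scalars I F) : g * jj F = jj F * g := by
  obtain ⟨z, hz⟩ := mem_scalars_iff'.1 c
  rw [mul_inv_eq_iff_eq_mul] at hz
  have h1 := congrArg (fun x : GL I F => (x : Matrix I I F).trace) hz
  simp only [Units.val_mul] at h1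
  rw [trace_mul_cycle, Units.inv_mul, Matrix.one_mul, coe_scal, smul_mul_assoc, Matrix.one_mul, trace_smul,
    Iso_trace, smul_eq_mul, mul_one] at h1
  rw [show z = 1 from Units.ext h1.symm, scal_one, one_mul] at hz
  exact mul_inv_eq_iff_eq_mul.1 hz

theorem St.iso (h : St p ζ w G) (hg : g ∈ G) (c : g * jj F * g⁻¹ * jj F = jj F * (g * jj F * g⁻¹)) :
    g * jj F = jj F * g := by
  obtain ⟨u, ou, hw, u2⟩ := h.toCl.wh_m
  obtain ⟨L, hc⟩ := hw.core (by simp)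
  have jG : g * jj F * g⁻¹ ∈ G := mul_mem (mul_mem hg h.toCl.j) (inv_mem hg)
  have j2 : g * jj F * g⁻¹ * (g * jj F * g⁻¹) = 1 := by rw [conj_mul, jj_jj, mul_one, mul_inv_cancel]
  obtain ⟨γ, oγ⟩ := exists_m c
  by_cases hγ : γ ∈ scalars (Fin 5) F
  · obtain ⟨d, rfl⟩ := mem_scalars_iff'.1 hγ
    rcases h.km jG c oγ with k | k
    · refine absurd ?_ (jj_notMem (F := F))
      simpa [mul_assoc] using scalars_normal.conj_mem _ k g⁻¹
    · exact comm_j (by rwa [jj_inv])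
  exfalso
  have γ2 : γ * γ = 1 := On.unique Km_Jm (oγ.mul oγ) (j2 ▸ On.one)
  obtain ⟨k, ⟨k0, kG, kc, ok⟩, hk⟩ := hw.oc h.d11 hc (hw.gd h.d11 hc) ⟨_, jG, c, oγ⟩ hw.vm
    (γ2 ▸ one_mem _) u2 hγ hw.v_ne
  obtain ⟨d, hd⟩ := mem_scalars_iff'.1 hk
  have cw : Commute w (jj F) := h.toCl.w_jj
  have s := h.km (mul_mem (mul_mem (mul_mem kG jG) (inv_mem kG)) (inv_mem h.wm))
    (((Commute.mul_left kc c).mul_left (Commute.inv_left kc)).mul_left cw.inv_left)
    (hd ▸ ((ok.mul oγ).mul ok.inv).mul ou.inv)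
  have y2 : k0 * (g * jj F * g⁻¹) * k0⁻¹ * (k0 * (g * jj F * g⁻¹) * k0⁻¹) = 1 := by
    rw [conj_mul, j2, mul_one, mul_inv_cancel]
  generalize k0 * (g * jj F * g⁻¹) * k0⁻¹ = y at s y2
  have sq : ∀ z x : GL I F, z ∈ scalars I F → y = z * x → x * x ∈ scalars I F := fun z x hz e => by
    rw [e, Commute.mul_mul_mul_comm (scalars_comm hz x).symm] at y2
    exact (mul_mem_cancel_left (mul_mem hz hz)).1 (y2 ▸ one_mem _)
  have ww : w * w ∈ scalars I F := by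
    rcases s with s | s
    · exact sq _ w s (by group)
    · have := sq _ (jj F * w) s (by rw [mul_assoc _ (jj F), ← mul_assoc (jj F), jj_jj]; group)
      rwa [cw.mul_mul_mul_comm, jj_jj, one_mul] at this
  rw [h.toCl.ww] at ww
  exact jj_notMem ((mul_mem_cancel_left (scal_mem _)).1 ww)

theorem St.odd_cent (h : St p ζ w G) {O : Subgroup (GL I F)} (hZ : scalars I F ≤ O) (hO : O ≤ G) (hn : NzG G O)
    (ho : Odd ((scalars I F).relIndex O)) (hg : g ∈ O) (c : g * jj F = jj F * g) : g ∈ scalars I F := by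
  obtain ⟨u, -, hw, -⟩ := h.toCl.wh_m
  obtain ⟨L, hc⟩ := hw.core (by simp)
  let C : Subgroup (GL I F) := O ⊓ Subgroup.centralizer {jj F}
  have mC : ∀ x : C, (x : GL I F) * jj F = jj F * x := fun x => Subgroup.mem_centralizer_singleton_iff.1 x.2.2
  choose r hr using fun x : C => exists_m (mC x)
  let φ : C →* GL (Fin 5) F := MonoidHom.mk' r fun a b => On.unique Km_Jm (hr (a * b)) ((hr a).mul (hr b))
  have hK : φ.range = Gr (Jm F) O := Subgroup.ext fun γ => ⟨fun ⟨x, e⟩ => ⟨x, x.2.1, mC x, e ▸ hr x⟩,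
    fun ⟨x, x1, x2, x3⟩ => ⟨⟨x, x1, Subgroup.mem_centralizer_singleton_iff.2 x2⟩, On.unique Km_Jm (hr _) x3⟩⟩
  have k1 : Odd ((scalars (Fin 5) F).relIndex (Gr (Jm F) O)) := by
    rw [← hK, ← Subgroup.index_comap]
    refine ho.of_dvd_nat (Dvd.dvd.trans (Subgroup.index_dvd_of_le (H := (scalars I F).subgroupOf C) fun x hx => ?_) ?_)
    · obtain ⟨d, hd⟩ := mem_scalars_iff'.1 (Subgroup.mem_subgroupOf.1 hx)
      exact mem_scalars_iff'.2 ⟨d, On.unique Km_Jm (hr x) (hd ▸ On.scal d)⟩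
    · exact Dvd.intro _ (Subgroup.relIndex_mul_relIndex (scalars I F) C O (le_inf hZ fun z hz =>
        Subgroup.mem_centralizer_singleton_iff.2 (scalars_comm hz _)) inf_le_left)
  have k2 := le_of_odd hc (hw.gd h.d11 hc) (K := Gr (Jm F) O) (fun z hz => by
      obtain ⟨d, rfl⟩ := mem_scalars_iff'.1 hz
      exact ⟨scal I d, hZ (scal_mem d), scal_comm d _, On.scal d⟩)
    (fun _ ⟨x, x1, x2⟩ => ⟨x, hO x1, x2⟩)
    (fun _ ⟨x, x1, x2, x3⟩ _ ⟨y, y1, y2, y3⟩ => ⟨_, hn x x1 y y1,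
      (Commute.mul_left x2 y2).mul_left (Commute.inv_left x2), (x3.mul y3).mul x3.inv⟩) k1
  obtain ⟨γ, oγ⟩ := exists_m c
  obtain ⟨d, rfl⟩ := mem_scalars_iff'.1 (k2 ⟨g, hg, c, oγ⟩)
  refine (h.km (hO hg) c oγ).resolve_right fun k => ?_
  have jO : jj F ∈ O := (mul_mem_cancel_left hg).1 (hZ k)
  let a : O ⧸ (scalars I F).subgroupOf O := QuotientGroup.mk ⟨_, jO⟩
  have h1 : a ^ 2 = 1 := by
    rw [← QuotientGroup.mk_pow, show (⟨_, jO⟩ : O) ^ 2 = 1 from Subtype.ext ((pow_two _).trans jj_jj),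
      QuotientGroup.mk_one]
  have h2 : a ≠ 1 := fun c => jj_notMem (Subgroup.mem_subgroupOf.1 ((QuotientGroup.eq_one_iff _).1 c))
  exact absurd (ho.of_dvd_nat (orderOf_eq_prime h1 h2 ▸ orderOf_dvd_natCard a)) (by decide)

end Cfsg.Agent.XP
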